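import Groth.Agent.EtPBC0.StrictTensor
import Groth.Agent.EtPBC0.StrictBC
import Groth.Prelude.Def_Hens2
import Mathlib.FieldTheory.IsSepClosed

/-!
# Strict henselizations of the points of a base change to a strict localization
-/

set_option autoImplicit false
set_option linter.style.haveILetI false
set_option maxHeartbeats 1000000

universe u

open CategoryTheory CategoryTheory.Limits AlgebraicGeometry Opposite IsLocalRing

namespace Groth.Agent.EtLARel

set_option backward.isDefEq.respectTransparency false
set_option backward.isDefEq.respectTransparency.types false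

/-- Over a closed point of a strict localization of the base, a strict henselization of a point of the
original scheme is one of the point of the base change. -/
theorem exists_strict {X S X' : Scheme.{u}} (f : X ⟶ S) (p : X' ⟶ X) (x' : X') (RS : Type u) [CommRing RS]
    [IsLocalRing RS] [Algebra (S.presheaf.stalk (f.base (p.base x'))) RS]
    [IsLocalHom (algebraMap (S.presheaf.stalk (f.base (p.base x'))) RS)]
    [Hensel.IsStrictHenselization (S.presheaf.stalk (f.base (p.base x'))) RS]
    (f' : X' ⟶ Spec (CommRingCat.of RS)) (cX : IsPullback p f' f (Hens2.specOf S (f.base (p.base x')) RS))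
    (hx' : f'.base x' = closedPoint RS) :
    ∃ (RX : Type u) (_ : CommRing RX) (_ : IsLocalRing RX) (_ : Algebra (X.presheaf.stalk (p.base x')) RX)
      (_ : IsLocalHom (algebraMap (X.presheaf.stalk (p.base x')) RX))
      (_ : Hensel.IsStrictHenselization (X.presheaf.stalk (p.base x')) RX)
      (_ : Algebra (X'.presheaf.stalk x') RX) (_ : IsLocalHom (algebraMap (X'.presheaf.stalk x') RX))
      (_ : Hensel.IsStrictHenselization (X'.presheaf.stalk x') RX) (_ : Algebra RS RX)
      (_ : IsLocalHom (algebraMap RS RX)),
      (algebraMap RS RX).comp (algebraMap (S.presheaf.stalk (f.base (p.base x'))) RS) =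
          (algebraMap (X.presheaf.stalk (p.base x')) RX).comp (f.stalkMap (p.base x')).hom ∧
        Hens2.specOf X' x' RX ≫ p = Hens2.specOf X (p.base x') RX ∧
        Hens2.specOf X' x' RX ≫ f' = Spec.map (CommRingCat.ofHom (algebraMap RS RX)) := by
  let OS := S.presheaf.stalk (f.base (p.base x'))
  let OX := X.presheaf.stalk (p.base x')
  let O' := X'.presheaf.stalk x'
  let χ : OS ⟶ CommRingCat.of RS := CommRingCat.ofHom (algebraMap OS RS)
  let a : OX ⟶ O' := p.stalkMap x'
  let b : CommRingCat.of RS ⟶ O' := Spec.preimage (X'.fromSpecStalk x' ≫ f')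
  have hSa : Spec.map a ≫ X.fromSpecStalk (p.base x') = X'.fromSpecStalk x' ≫ p :=
    Scheme.SpecMap_stalkMap_fromSpecStalk p
  have hSb : Spec.map b = X'.fromSpecStalk x' ≫ f' := Spec.map_preimage _
  have hext : ∀ (T : CommRingCat.{u}) (h h' : O' ⟶ T), a ≫ h = a ≫ h' → b ≫ h = b ≫ h' → h = h' := by
    intro T h h' ha hb
    refine Spec.map_injective ((cancel_mono (X'.fromSpecStalk x')).1 (cX.hom_ext ?_ ?_))
    · rw [Category.assoc, Category.assoc, ← hSa, ← Spec.map_comp_assoc, ← Spec.map_comp_assoc, ha]
    · rw [Category.assoc, Category.assoc, ← hSb, ← Spec.map_comp, ← Spec.map_comp, hb]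
  have hab : f.stalkMap (p.base x') ≫ a = χ ≫ b := by
    refine Spec.map_injective ((cancel_mono (S.fromSpecStalk (f.base (p.base x')))).1 ?_)
    rw [Spec.map_comp, Category.assoc, Scheme.SpecMap_stalkMap_fromSpecStalk, ← Category.assoc, hSa,
      Category.assoc, cX.w, Spec.map_comp, hSb]
    simp only [Category.assoc]
    rfl
  haveI : IsLocalHom b.hom := ((local_hom_TFAE b.hom).out 0 4).mpr (by
    have h : (Spec.map b).base (closedPoint O') = closedPoint RS := by
      rw [hSb]
      show f'.base ((X'.fromSpecStalk x').base (closedPoint O')) = _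
      rw [Scheme.fromSpecStalk_closedPoint]
      exact hx'
    exact congrArg PrimeSpectrum.asIdeal h)
  haveI : IsLocalHom a.hom := inferInstanceAs (IsLocalHom (p.stalkMap x').hom)
  -- a common separably closed field
  let L := AlgebraicClosure (ResidueField O')
  let c : O' →+* L := (algebraMap (ResidueField O') L).comp (residue O')
  haveI : IsLocalHom c := RingHom.isLocalHom_comp _ _
  haveI : IsLocalHom (c.comp a.hom) := RingHom.isLocalHom_comp _ _
  haveI : IsLocalHom (c.comp b.hom) := RingHom.isLocalHom_comp _ _
  let RX := Hensel.StrictHenz OX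
  haveI : IsSepClosed (ResidueField RX) := (Hensel.isSepClosure_residueField_strictHenz OX).sep_closed
  haveI : Algebra.IsSeparable (ResidueField OX) (ResidueField RX) :=
    (Hensel.isSepClosure_residueField_strictHenz OX).separable
  haveI := (Hensel.IsStrictHenselization.isSepClosure (R := OS) (S := RS)).separable
  letI : Algebra (ResidueField OX) L := ((algebraMap (ResidueField O') L).comp (ResidueField.map a.hom)).toAlgebra
  letI : Algebra (ResidueField OS) L :=
    ((algebraMap (ResidueField OX) L).comp (ResidueField.map (f.stalkMap (p.base x')).hom)).toAlgebra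
  letI : Algebra (ResidueField OS) (ResidueField OX) := (ResidueField.map (f.stalkMap (p.base x')).hom).toAlgebra
  haveI : IsScalarTower (ResidueField OS) (ResidueField OX) L := IsScalarTower.of_algebraMap_eq fun _ => rfl
  let ιS : ResidueField RS →ₐ[ResidueField OS] L :=
    { (algebraMap (ResidueField O') L).comp (ResidueField.map b.hom) with
      commutes' := fun r => by
        obtain ⟨r, rfl⟩ := residue_surjective r
        show algebraMap (ResidueField O') L (ResidueField.map b.hom
            (algebraMap (ResidueField OS) (ResidueField RS) (residue OS r))) =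
          algebraMap (ResidueField O') L (ResidueField.map a.hom
            (ResidueField.map (f.stalkMap (p.base x')).hom (residue OS r)))
        rw [ResidueField.algebraMap_residue, ResidueField.map_residue, ResidueField.map_residue,
          ResidueField.map_residue]
        exact congrArg (fun t => algebraMap (ResidueField O') L (residue O' t))
          (ConcreteCategory.congr_hom hab r).symm }
  let τ₀ : ResidueField RX →ₐ[ResidueField OX] L := IsSepClosed.lift
  -- the residue field of the base lifts
  have hmem : ∀ r, ∃ y, τ₀ y = ιS r := fun r => by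
    letI : Algebra (ResidueField RX) L := τ₀.toRingHom.toAlgebra
    haveI : IsScalarTower (ResidueField OX) (ResidueField RX) L :=
      IsScalarTower.of_algebraMap_eq fun z => (τ₀.commutes z).symm
    have h₁ : IsSeparable (ResidueField OS) (ιS r) :=
      (isSeparable_map_iff ιS ιS.toRingHom.injective).2 (Algebra.IsSeparable.isSeparable (ResidueField OS) r)
    have h₂ : IsSeparable (ResidueField RX) (ιS r) :=
      IsSeparable.tower_top _ (IsSeparable.tower_top (ResidueField OX) h₁)
    exact minpoly.mem_range_of_degree_eq_one _ _
      (IsSepClosed.degree_eq_one_of_irreducible _ (minpoly.irreducible h₂.isIntegral) h₂)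
  choose ρ hρ using hmem
  have hτi : Function.Injective τ₀ := τ₀.toRingHom.injective
  let ρ' : ResidueField RS →+* ResidueField RX :=
    { toFun := ρ
      map_one' := hτi (by rw [hρ, map_one, map_one])
      map_mul' := fun r s => hτi (by rw [hρ, map_mul, map_mul, hρ, hρ])
      map_zero' := hτi (by rw [hρ, map_zero, map_zero])
      map_add' := fun r s => hτi (by rw [hρ, map_add, map_add, hρ, hρ]) }
  let φX : OS →+* RX := (algebraMap OX RX).comp (f.stalkMap (p.base x')).hom
  haveI : IsLocalHom φX := RingHom.isLocalHom_comp _ _
  haveI : HenselianLocalRing RX := Hensel.IsStrictHenselization.henselian (R := OX)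
  obtain ⟨ψ, ⟨hψ₁, hψ₂⟩, -⟩ := Hensel.IsStrictHenselization.universal (R := OS) (S := RS) RX φX ρ'
    (RingHom.ext fun r => by
      obtain ⟨r, rfl⟩ := residue_surjective r
      refine hτi ?_
      show τ₀ (ρ (algebraMap (ResidueField OS) (ResidueField RS) (residue OS r))) =
        τ₀ (ResidueField.map φX (residue OS r))
      rw [hρ, ιS.commutes, ResidueField.map_residue]
      refine Eq.trans ?_ (((congrArg τ₀ (ResidueField.algebraMap_residue (R := OX) (S := RX)
        ((f.stalkMap (p.base x')).hom r))).symm.trans (τ₀.commutes _))).symm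
      show algebraMap (ResidueField OX) L (ResidueField.map (f.stalkMap (p.base x')).hom (residue OS r)) = _
      rw [ResidueField.map_residue])
  haveI : IsLocalHom ψ := ⟨fun r hr => by
    by_contra hr'
    have h0 := hψ₂ r
    rw [(residue_eq_zero_iff r).2 hr', map_zero, residue_eq_zero_iff] at h0
    exact h0 hr⟩
  letI : Algebra RS RX := ψ.toAlgebra
  haveI : IsLocalHom (algebraMap RS RX) := ‹IsLocalHom ψ›
  -- the lift
  have hw : Hens2.specOf X (p.base x') RX ≫ f =
      Spec.map (CommRingCat.ofHom ψ) ≫ Hens2.specOf S (f.base (p.base x')) RS :=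
    EtPBC0.specOf_comp f (p.base x') RS RX ψ hψ₁
  let l : Spec (CommRingCat.of RX) ⟶ X' := cX.lift _ _ hw
  let ι₀ : RX →+* L := τ₀.toRingHom.comp (residue RX)
  haveI : IsLocalHom ι₀ := RingHom.isLocalHom_comp _ _
  have hl : Spec.map (CommRingCat.ofHom ι₀) ≫ l =
      Spec.map (CommRingCat.ofHom c) ≫ X'.fromSpecStalk x' := by
    refine cX.hom_ext ?_ ?_
    · rw [Category.assoc, Category.assoc, cX.lift_fst, ← hSa]
      show Spec.map _ ≫ Spec.map _ ≫ _ = Spec.map _ ≫ Spec.map _ ≫ _
      rw [← Spec.map_comp_assoc, ← Spec.map_comp_assoc]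
      refine congrArg (fun q => Spec.map q ≫ X.fromSpecStalk (p.base x')) (CommRingCat.hom_ext (RingHom.ext fun z => ?_))
      show τ₀ (residue RX (algebraMap OX RX z)) = algebraMap (ResidueField O') L (residue O' (a.hom z))
      rw [← ResidueField.algebraMap_residue, τ₀.commutes]
      rfl
    · rw [Category.assoc, Category.assoc, cX.lift_snd, ← hSb, ← Spec.map_comp, ← Spec.map_comp]
      refine congrArg Spec.map (CommRingCat.hom_ext (RingHom.ext fun r => ?_))
      show τ₀ (residue RX (ψ r)) = algebraMap (ResidueField O') L (residue O' (b.hom r))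
      rw [hψ₂]
      exact hρ _
  have hlx : l.base (closedPoint RX) = x' := by
    have h := congrArg (fun q : Spec (CommRingCat.of L) ⟶ X' => q.base (closedPoint L)) hl
    have e₁ : (Spec.map (CommRingCat.ofHom ι₀)).base (closedPoint L) = closedPoint RX :=
      PrimeSpectrum.ext (((local_hom_TFAE ι₀).out 0 4).mp ‹_›)
    have e₂ : (Spec.map (CommRingCat.ofHom c)).base (closedPoint L) = closedPoint O' :=
      PrimeSpectrum.ext (((local_hom_TFAE c).out 0 4).mp ‹_›)
    change l.base ((Spec.map (CommRingCat.ofHom ι₀)).base (closedPoint L)) =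
      (X'.fromSpecStalk x').base ((Spec.map (CommRingCat.ofHom c)).base (closedPoint L)) at h
    rw [e₁, e₂, Scheme.fromSpecStalk_closedPoint] at h
    exact h
  obtain ⟨j, hjl, hj⟩ : ∃ j : O' ⟶ CommRingCat.of RX, IsLocalHom j.hom ∧
      Spec.map j ≫ X'.fromSpecStalk x' = l := by
    have aux : ∀ (y : X') (_ : l.base (closedPoint RX) = y), ∃ j : X'.presheaf.stalk y ⟶ CommRingCat.of RX,
        IsLocalHom j.hom ∧ Spec.map j ≫ X'.fromSpecStalk y = l := by
      rintro y rfl
      exact ⟨Scheme.stalkClosedPointTo l, Scheme.isLocalHom_stalkClosedPointTo' l,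
        Scheme.Spec_stalkClosedPointTo_fromSpecStalk l⟩
    exact aux x' hlx
  have hja : a ≫ j = CommRingCat.ofHom (algebraMap OX RX) := by
    refine Spec.map_injective ((cancel_mono (X.fromSpecStalk (p.base x'))).1 ?_)
    rw [Spec.map_comp, Category.assoc, hSa, ← Category.assoc, hj]
    exact cX.lift_fst _ _ _
  have hjb : b ≫ j = CommRingCat.ofHom ψ := by
    refine Spec.map_injective ?_
    rw [Spec.map_comp, hSb, ← Category.assoc, hj]
    exact cX.lift_snd _ _ _
  letI : Algebra O' RX := j.hom.toAlgebra
  haveI hjl' : IsLocalHom (algebraMap O' RX) := hjl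
  have hja' : ∀ z, algebraMap O' RX (a.hom z) = algebraMap OX RX z := fun z => ConcreteCategory.congr_hom hja z
  haveI : Hensel.IsStrictHenselization O' RX := by
    refine ⟨inferInstance, ⟨inferInstance, ⟨fun y => ?_⟩⟩, fun T _ _ f₁ _ τ hτ => ?_⟩
    · obtain ⟨y, rfl⟩ := residue_surjective y
      exact EtPBC0.isSeparable_residue (M := RX) a.hom (RingHom.id RX) hja' y
    · let fX : OX →+* T := f₁.comp a.hom
      haveI : IsLocalHom fX := RingHom.isLocalHom_comp _ _
      have hτX : τ.comp (ResidueField.map (algebraMap OX RX)) = ResidueField.map fX := RingHom.ext fun z => by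
        obtain ⟨z, rfl⟩ := residue_surjective z
        show τ (ResidueField.map (algebraMap OX RX) (residue OX z)) = ResidueField.map fX (residue OX z)
        rw [ResidueField.map_residue, ResidueField.map_residue, ← hja']
        have := RingHom.congr_fun hτ (residue O' (a.hom z))
        rwa [RingHom.comp_apply, ResidueField.map_residue, ResidueField.map_residue] at this
      obtain ⟨g, ⟨hg₁, hg₂⟩, hgu⟩ := Hensel.IsStrictHenselization.universal (R := OX) (S := RX) T fX τ hτX
      refine ⟨g, ⟨?_, hg₂⟩, fun g' hg' => hgu g' ⟨RingHom.ext fun z => ?_, hg'.2⟩⟩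
      · haveI : IsLocalHom g := ⟨fun r hr => by
          by_contra hr'
          have h0 := hg₂ r
          rw [(residue_eq_zero_iff r).2 hr', map_zero, residue_eq_zero_iff] at h0
          exact h0 hr⟩
        have hres : ∀ r, residue T (f₁ (b.hom r)) = residue T (g (ψ r)) := fun r => by
          rw [hg₂, show ψ r = algebraMap O' RX (b.hom r) from (ConcreteCategory.congr_hom hjb r).symm]
          have := RingHom.congr_fun hτ (residue O' (b.hom r))
          rw [RingHom.comp_apply, ResidueField.map_residue, ResidueField.map_residue] at this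
          exact this.symm
        haveI : IsLocalHom (g.comp ψ) := RingHom.isLocalHom_comp _ _
        let fS : OS →+* T := fX.comp (f.stalkMap (p.base x')).hom
        haveI : IsLocalHom fS := RingHom.isLocalHom_comp _ _
        have hgS : g.comp ψ = f₁.comp b.hom := by
          refine EtPBC0.eq_of_residue (A := OS) fS _ _ ?_ ?_ hres
          · rw [RingHom.comp_assoc, hψ₁, ← RingHom.comp_assoc, hg₁]
          · refine RingHom.ext fun r => ?_
            exact congrArg f₁ (ConcreteCategory.congr_hom hab r).symm
        have h := hext (CommRingCat.of T) (j ≫ CommRingCat.ofHom g) (CommRingCat.ofHom f₁)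
          (by rw [← Category.assoc, hja]; exact CommRingCat.hom_ext hg₁)
          (by rw [← Category.assoc, hjb]; exact CommRingCat.hom_ext hgS)
        exact congrArg CommRingCat.Hom.hom h
      · show g' (algebraMap OX RX z) = f₁ (a.hom z)
        rw [← hja']
        exact RingHom.congr_fun hg'.1 _
  refine ⟨RX, inferInstance, inferInstance, inferInstance, inferInstance, inferInstance, inferInstance, inferInstance,
    inferInstance, inferInstance, inferInstance, hψ₁, ?_, ?_⟩
  · exact (eq_whisker hj p).trans (cX.lift_fst _ _ _)
  · exact (eq_whisker hj f').trans (cX.lift_snd _ _ _)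

end Groth.Agent.EtLARel
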