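import Groth.Agent.EtLARel.Crit
import Groth.Agent.EtLARel.StrictPullback
import Groth.Agent.EtLeray.CompN
import Groth.Prelude.Def_SGA4h
import Mathlib.RingTheory.TensorProduct.Basic

/-!
# Local acyclicity: the unit and higher direct images on a closed fibre
-/

set_option autoImplicit false
set_option linter.style.haveILetI false
set_option maxHeartbeats 1000000

universe u

open CategoryTheory CategoryTheory.Limits AlgebraicGeometry Opposite CategoryTheory.Abelian
open scoped TensorProduct

namespace Groth.Agent.EtLARel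

set_option backward.isDefEq.respectTransparency false
set_option backward.isDefEq.respectTransparency.types false

open Groth.Agent

theorem isIso_stalk_of_strict {X : Scheme.{u}} (x : X) (R : Type u) [CommRing R] [IsLocalRing R]
    [Algebra (X.presheaf.stalk x) R] [IsLocalHom (algebraMap (X.presheaf.stalk x) R)]
    [Hensel.IsStrictHenselization (X.presheaf.stalk x) R] [IsSepClosed (IsLocalRing.ResidueField R)]
    {A B : EtCoh.Ab X} (φ : A ⟶ B)
    (H : IsIso ((EtCoh.pull (Hens2.specOf X x R) ⋙ EtCore.gsec (Spec (CommRingCat.of R))).map φ))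
    (Ω : Type u) [Field Ω] [IsSepClosed Ω] (τ : IsLocalRing.ResidueField R →+* Ω)
    (ξ : Spec (CommRingCat.of Ω) ⟶ X) (hξ : Spec.map (CommRingCat.ofHom τ) ≫ Hens2.geomPt X x R = ξ) :
    IsIso ((EtCoh.stalk ξ).map φ) := by
  subst hξ
  exact (NatIso.isIso_map_iff (EtFound.stalkExtIso AddCommGrpCat.{u + 1} (Hens2.geomPt X x R)
    (Spec.map (CommRingCat.ofHom τ))) φ).1
    ((NatIso.isIso_map_iff (EtContLib.stalkIsoSections X x R) φ).2 H)

theorem isIso_of_isZero_endo {C : Type*} [Category C] {A : C} (hz : IsZero A) (φ : A ⟶ A) : IsIso φ :=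
  ⟨⟨φ, hz.eq_of_src _ _, hz.eq_of_src _ _⟩⟩

/-- Bijectivity of pullback does not depend on the coefficient sheaf up to isomorphism. -/
theorem bijective_Hpull_of_iso {X Y : Scheme.{u}} (m : Y ⟶ X) [PreservesFiniteLimits (EtCoh.pull m)]
    {A B : EtCoh.Ab X} (e : A ≅ B) (q : ℕ) (hA : Function.Bijective (EtCore.Hpull m A q)) :
    Function.Bijective (EtCore.Hpull m B q) := by
  have h₁ : Function.Bijective ((EtCoh.HF X q).map e.hom) := ConcreteCategory.bijective_of_isIso _
  have h₂ : Function.Bijective ((EtCoh.HF Y q).map ((EtCoh.pull m).map e.hom)) := ConcreteCategory.bijective_of_isIso _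
  refine (Function.Bijective.of_comp_iff _ h₁).1 ?_
  rw [show (EtCore.Hpull m B q) ∘ ((EtCoh.HF X q).map e.hom) =
      ((EtCoh.HF Y q).map ((EtCoh.pull m).map e.hom)) ∘ (EtCore.Hpull m A q) from funext fun ξ => by
    show EtCore.Hpull m B q ((EtCoh.HF X q).map e.hom ξ) =
      (EtCoh.HF Y q).map ((EtCoh.pull m).map e.hom) (EtCore.Hpull m A q ξ)
    rw [EtContLib.HF_map_apply, EtContLib.HF_map_apply]
    exact EtLeray.Hpull_map m e.hom q ξ]
  exact h₂.comp hA

theorem closedPoint_of_field {R : Type u} [CommRing R] [IsLocalRing R]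
    (z : Spec (CommRingCat.of (IsLocalRing.ResidueField R))) :
    (Spec.map (CommRingCat.ofHom (IsLocalRing.residue R))).base z = IsLocalRing.closedPoint R := by
  refine PrimeSpectrum.ext ?_
  show Ideal.comap (IsLocalRing.residue R) z.asIdeal = IsLocalRing.maximalIdeal R
  rw [Ideal.eq_bot_of_prime z.asIdeal, ← RingHom.ker_eq_comap_bot, IsLocalRing.ker_residue]

theorem specOf_closedPoint (S : Scheme.{u}) (s : S) (R : Type u) [CommRing R] [IsLocalRing R]
    [Algebra (S.presheaf.stalk s) R] [IsLocalHom (algebraMap (S.presheaf.stalk s) R)] :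
    (Hens2.specOf S s R).base (IsLocalRing.closedPoint R) = s := by
  have e : (Spec.map (CommRingCat.ofHom (algebraMap (S.presheaf.stalk s) R))).base (IsLocalRing.closedPoint R) =
      IsLocalRing.closedPoint (S.presheaf.stalk s) :=
    PrimeSpectrum.ext (((IsLocalRing.local_hom_TFAE (algebraMap (S.presheaf.stalk s) R)).out 0 4).mp ‹_›)
  show (S.fromSpecStalk s).base ((Spec.map (CommRingCat.ofHom (algebraMap (S.presheaf.stalk s) R))).base _) = s
  rw [e, Scheme.fromSpecStalk_closedPoint]

section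

variable {X S : Scheme.{u}} (f : X ⟶ S) (F : EtCoh.Ab X) (hla : SGA4h.IsLARel f F) {X' : Scheme.{u}} (p : X' ⟶ X)
  (Ω : Type u) [Field Ω] [IsSepClosed Ω] {Xt : Scheme.{u}} (h : Xt ⟶ X') (ft : Xt ⟶ Spec (CommRingCat.of Ω))
  (x' : X') (RS : Type u) [CommRing RS] [IsLocalRing RS] [Algebra (S.presheaf.stalk (f.base (p.base x'))) RS]
  [IsLocalHom (algebraMap (S.presheaf.stalk (f.base (p.base x'))) RS)]
  [Hensel.IsStrictHenselization (S.presheaf.stalk (f.base (p.base x'))) RS]
  (f' : X' ⟶ Spec (CommRingCat.of RS)) (cX : IsPullback p f' f (Hens2.specOf S (f.base (p.base x')) RS))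
  (τ : RS →+* Ω) (ct : IsPullback h ft f' (Spec.map (CommRingCat.ofHom τ)))

include hla cX ct in
/-- At a point over the closed point, the unit is an isomorphism and higher direct images vanish. -/
theorem local_fibre (hx' : f'.base x' = IsLocalRing.closedPoint RS) :
    ∃ (R : Type u) (_ : CommRing R) (_ : IsLocalRing R) (_ : Algebra (X'.presheaf.stalk x') R)
      (_ : IsLocalHom (algebraMap (X'.presheaf.stalk x') R))
      (_ : Hensel.IsStrictHenselization (X'.presheaf.stalk x') R),
      Function.Bijective ((EtCore.gsec (Spec (CommRingCat.of R))).map ((EtCoh.pull (Hens2.specOf X' x' R)).map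
          ((EtCoh.pullPushAdj h).unit.app ((EtCoh.pull p).obj F)))) ∧
        ∀ q : ℕ, 0 < q → IsZero ((EtCoh.pull (Hens2.specOf X' x' R) ⋙ EtCore.gsec (Spec (CommRingCat.of R))).obj
          ((EtCoh.Rpush h q).obj ((EtCoh.pull h).obj ((EtCoh.pull p).obj F)))) := by
  obtain ⟨RX, _, _, _, _, _, _, _, _, _, _, hψ, hlp, hlf⟩ := exists_strict f p x' RS f' cX hx'
  letI : Algebra RS Ω := τ.toAlgebra
  let m₀ := Spec.map (CommRingCat.ofHom (algebraMap RX (RX ⊗[RS] Ω)))
  haveI := EtFound.pull_preservesFiniteLimits m₀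
  let sX' := Hens2.specOf X' x' RX
  let ρ := Spec.map (CommRingCat.ofHom (Algebra.TensorProduct.includeRight (R := RS) (A := RX) (B := Ω)).toRingHom)
  have sq₀ : IsPullback m₀ ρ (Spec.map (CommRingCat.ofHom (algebraMap RS RX))) (Spec.map (CommRingCat.ofHom τ)) :=
    isPullback_SpecMap_of_isPushout _ _ _ _ (CommRingCat.isPushout_tensorProduct RS RX Ω)
  have hw : (m₀ ≫ sX') ≫ f' = ρ ≫ Spec.map (CommRingCat.ofHom τ) :=
    (Category.assoc _ _ _).trans ((whisker_eq m₀ hlf).trans sq₀.w)
  let aY := ct.lift (m₀ ≫ sX') ρ hw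
  have sq : IsPullback aY m₀ h sX' := by
    refine IsPullback.of_right ?_ (ct.lift_fst _ _ _) ct.flip
    rw [ct.lift_snd, hlf]
    exact sq₀.flip
  haveI : IsAffineHom (Spec.map (CommRingCat.ofHom τ)) := isAffineHom_of_isAffine _
  haveI : QuasiCompact h := MorphismProperty.of_isPullback ct.flip (inferInstanceAs (QuasiCompact (Spec.map (CommRingCat.ofHom τ))))
  haveI : QuasiSeparated h := MorphismProperty.of_isPullback ct.flip (inferInstanceAs (QuasiSeparated (Spec.map (CommRingCat.ofHom τ))))
  refine ⟨RX, inferInstance, inferInstance, inferInstance, inferInstance, inferInstance,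
    bijective_unit_and_isZero h x' RX m₀ aY sq ((EtCoh.pull p).obj F) fun q => ?_⟩
  exact bijective_Hpull_of_iso m₀ (EtContLib.pullVia sX' p (Hens2.specOf X (p.base x') RX) hlp F).symm q
    (hla (p.base x') RS RX hψ Ω q)

end

end Groth.Agent.EtLARel
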