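import Groth.Agent.EtStrictBC.Main
import Groth.Agent.EtPBC0.StrictBC

/-!
# The unit and the higher direct images on the strict localizations of the base of a morphism
-/

set_option autoImplicit false
set_option linter.style.haveILetI false
set_option maxHeartbeats 1000000

universe u

open CategoryTheory CategoryTheory.Limits AlgebraicGeometry Opposite HomologicalComplex CategoryTheory.Abelian

namespace Groth.Agent.EtLARel

set_option backward.isDefEq.respectTransparency false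
set_option backward.isDefEq.respectTransparency.types false

open Groth.Agent

theorem app3 {A B C D : AddCommGrpCat.{u + 1}} (a : A ⟶ B) (b : B ⟶ C) (c : C ⟶ D) (x : A) :
    (a ≫ b ≫ c) x = c (b (a x)) := by
  rw [ConcreteCategory.comp_apply, ConcreteCategory.comp_apply]

theorem app2 {A B C : AddCommGrpCat.{u + 1}} (a : A ⟶ B) (b : B ⟶ C) (x : A) : (a ≫ b) x = b (a x) :=
  ConcreteCategory.comp_apply a b x

theorem inv_app_eq {A B : AddCommGrpCat.{u + 1}} (a : A ⟶ B) (b : B ⟶ A) (hab : a ≫ b = 𝟙 _) (x : A) (y : B)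
    (h : a x = y) : b y = x := by
  subst h
  exact (app2 a b x).symm.trans (congrArg (fun q : A ⟶ A => q x) hab)

theorem bij_of_comp_eq {A B C D : AddCommGrpCat.{u + 1}} (a : A ⟶ B) (b : B ⟶ C) (c : A ⟶ D) (d : D ⟶ C)
    (e : a ≫ b = c ≫ d) (ha : Function.Bijective a) (hb : IsIso b) (hd : Function.Bijective d) :
    Function.Bijective c := by
  haveI := (ConcreteCategory.isIso_iff_bijective a).2 ha
  haveI := (ConcreteCategory.isIso_iff_bijective d).2 hd
  haveI : IsIso (c ≫ d) := e ▸ (inferInstance : IsIso (a ≫ b))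
  haveI : IsIso c := IsIso.of_isIso_comp_right c d
  exact ConcreteCategory.bijective_of_isIso c

theorem split {P Q Z : Scheme.{u}} (j : P ⟶ Q) (a : Q ⟶ Z) (a' : P ⟶ Z) (w : j ≫ a = a') (A : EtCoh.Ab Z)
    {C : EtCoh.Ab P} (β : (EtCoh.pull a').obj A ⟶ C) :
    (EtMVLib.pullSec j).app ((EtCoh.pull a).obj A) ≫
      (EtCore.gsec P).map ((EtContLib.pullVia j a a' w A).hom ≫ β) =
    EtStrictBC.resSec j a a' w A ≫ (EtCore.gsec P).map β := by
  rw [Functor.map_comp (EtCore.gsec P), EtStrictBC.resSec, Category.assoc]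

/-- Pullback of sections computes the transposed map, on a germ. -/
theorem key_secAt {T X Q P : Scheme.{u}} (h : T ⟶ X) (sX : Q ⟶ X) (m : P ⟶ Q) (aY : P ⟶ T) (w : aY ≫ h = m ≫ sX)
    (A : EtCoh.Ab X) (B : EtCoh.Ab T) (φ : (EtCoh.pull h).obj A ⟶ B) (V : X.Etale) (t : Q ⟶ V.left)
    (wt : t ≫ V.hom = sX) (s : A.obj.obj (op V)) :
    (EtCore.gsec P).map ((EtCoh.pull aY).map φ) ((EtCore.gsec P).map (EtContLib.pullVia aY h (m ≫ sX) w A).inv
      (EtStrictBC.resSec m sX (m ≫ sX) rfl A (EtContLib.secAt sX V t wt A s))) =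
    EtStrictBC.pushSec h sX m aY w B ((EtCore.gsec Q).map ((EtCoh.pull sX).map
      (((EtCoh.pullPushAdj h).homEquiv A B) φ)) (EtContLib.secAt sX V t wt A s)) := by
  have wt' : (m ≫ t) ≫ V.hom = m ≫ sX := by rw [Category.assoc, wt]
  have hw : (m ≫ t) ≫ V.hom = aY ≫ h := wt'.trans w.symm
  let τ : P ⟶ ((EtCoh.bc h).obj V).left := pullback.lift (m ≫ t) aY hw
  have h₁ : τ ≫ pullback.fst V.hom h = m ≫ t := pullback.lift_fst _ _ _
  have h₂ : τ ≫ ((EtCoh.bc h).obj V).hom = aY := pullback.lift_snd _ _ _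
  rw [EtStrictBC.resSec_secAt m sX (m ≫ sX) rfl A V t wt (m ≫ t) rfl wt' s]
  have hinv : (EtCore.gsec P).map (EtContLib.pullVia aY h (m ≫ sX) w A).inv
      (EtContLib.secAt (m ≫ sX) V (m ≫ t) wt' A s) =
      EtContLib.secAt aY ((EtCoh.bc h).obj V) τ h₂ ((EtCoh.pull h).obj A) (EtBCQ.upA h A V s) :=
    inv_app_eq ((EtCore.gsec P).map (EtContLib.pullVia aY h (m ≫ sX) w A).hom) _
      (((EtCore.gsec P).map_comp _ _).symm.trans ((congrArg (EtCore.gsec P).map
        (EtContLib.pullVia aY h (m ≫ sX) w A).hom_inv_id).trans ((EtCore.gsec P).map_id _))) _ _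
      (EtStrictBC.pullVia_secAt_up aY h (m ≫ sX) w A V τ h₂ (m ≫ t) h₁ wt' s)
  rw [hinv, EtStrictBC.secAt_pull, EtStrictBC.secAt_pull]
  erw [EtStrictBC.pushSec_secAt]
  have hs : (((EtCoh.pullPushAdj h).homEquiv A B) φ).hom.app (op V) s =
      φ.hom.app (op ((EtCoh.bc h).obj V)) (EtBCQ.upA h A V s) := by
    rw [Adjunction.homEquiv_unit]
    rfl
  refine Eq.trans ?_ (congrArg _ hs.symm)
  exact EtStrictBC.secAt_congr aY _ (pullback.hom_ext (h₁.trans (EtStrictBC.pushLift_fst h sX m aY w V t wt).symm)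
    (h₂.trans (EtStrictBC.pushLift_hom h sX m aY w V t wt).symm)) _ _ B _

/-- Pullback of sections computes the transposed map. -/
theorem key_abs {T X Q P : Scheme.{u}} (h : T ⟶ X) (sX : Q ⟶ X) (m : P ⟶ Q) (aY : P ⟶ T) (w : aY ≫ h = m ≫ sX)
    (A : EtCoh.Ab X) (hs : ∀ ξ : (EtCore.gsec Q).obj ((EtCoh.pull sX).obj A),
      ∃ (V : X.Etale) (t : Q ⟶ V.left) (wt : t ≫ V.hom = sX) (s : A.obj.obj (op V)),
        EtContLib.secAt sX V t wt A s = ξ)
    (B : EtCoh.Ab T) (φ : (EtCoh.pull h).obj A ⟶ B) :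
    (EtMVLib.pullSec m).app ((EtCoh.pull sX).obj A) ≫
        (EtCore.gsec P).map ((EtContLib.pullVia m sX (m ≫ sX) rfl A).hom ≫
          (EtContLib.pullVia aY h (m ≫ sX) w A).inv ≫ (EtCoh.pull aY).map φ) =
      (EtCore.gsec Q).map ((EtCoh.pull sX).map (((EtCoh.pullPushAdj h).homEquiv A B) φ)) ≫
        EtStrictBC.pushSec h sX m aY w B := by
  rw [split m sX (m ≫ sX) rfl A, Functor.map_comp (EtCore.gsec P)]
  refine ConcreteCategory.hom_ext _ _ fun ξ => ?_
  obtain ⟨V, t, wt, s, rfl⟩ := hs ξ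
  rewrite [app3, app2]
  exact key_secAt h sX m aY w A B φ V t wt s

/-- Pullback of sections computes the transposed map on the strict localization. -/
theorem key_square {T X P : Scheme.{u}} (h : T ⟶ X) (x : X) (R : Type u) [CommRing R] [IsLocalRing R]
    [Algebra (X.presheaf.stalk x) R] [IsLocalHom (algebraMap (X.presheaf.stalk x) R)]
    [Hensel.IsStrictHenselization (X.presheaf.stalk x) R] (m : P ⟶ Spec (CommRingCat.of R)) (aY : P ⟶ T)
    (w : aY ≫ h = m ≫ Hens2.specOf X x R) (A : EtCoh.Ab X) (B : EtCoh.Ab T) (φ : (EtCoh.pull h).obj A ⟶ B) :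
    (EtMVLib.pullSec m).app ((EtCoh.pull (Hens2.specOf X x R)).obj A) ≫
        (EtCore.gsec P).map ((EtContLib.pullVia m (Hens2.specOf X x R) (m ≫ Hens2.specOf X x R) rfl A).hom ≫
          (EtContLib.pullVia aY h (m ≫ Hens2.specOf X x R) w A).inv ≫ (EtCoh.pull aY).map φ) =
      (EtCore.gsec (Spec (CommRingCat.of R))).map ((EtCoh.pull (Hens2.specOf X x R)).map
          (((EtCoh.pullPushAdj h).homEquiv A B) φ)) ≫
        EtStrictBC.pushSec h (Hens2.specOf X x R) m aY w B :=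
  key_abs h (Hens2.specOf X x R) m aY w A (EtStrictBC.exists_secAt x R A) B φ

/-- The complexes of sections. -/
theorem secCx_key {T X Q P : Scheme.{u}} (h : T ⟶ X) (sX : Q ⟶ X) (m : P ⟶ Q) [PreservesFiniteLimits (EtCoh.pull m)]
    (aY : P ⟶ T) {N : EtCoh.Ab X ⥤ EtCoh.Ab P} (e₁ : EtCoh.pull sX ⋙ EtCoh.pull m ≅ N)
    (e₂ : EtCoh.pull h ⋙ EtCoh.pull aY ≅ N)
    {G : EtCoh.Ab X} [PreservesFiniteLimits (EtCoh.pull h)] (I : InjectiveResolution G)
    (J : InjectiveResolution ((EtCoh.pull h).obj G))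
    (χ₀ : ((EtCoh.pull h).mapHomologicalComplex (ComplexShape.up ℕ)).obj I.cocomplex ⟶ J.cocomplex)
    (P₂ : EtCoh.push h ⋙ EtCoh.pull sX ⋙ EtCore.gsec Q ⟶ EtCoh.pull aY ⋙ EtCore.gsec P)
    (H : ∀ (A : EtCoh.Ab X) (B : EtCoh.Ab T) (φ : (EtCoh.pull h).obj A ⟶ B),
      (EtMVLib.pullSec m).app ((EtCoh.pull sX).obj A) ≫
        (EtCore.gsec P).map ((e₁.app A).hom ≫ (e₂.app A).inv ≫ (EtCoh.pull aY).map φ) =
      (EtCoh.pull sX ⋙ EtCore.gsec Q).map (((EtCoh.pullPushAdj h).homEquiv A B) φ) ≫ P₂.app B) :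
    EtStrictBC.secCx m (EtStrictBC.compareCx (EtCoh.pull sX) (EtCoh.pull m) (EtCoh.pull h) (EtCoh.pull aY) e₁ e₂ χ₀) =
    ((EtCoh.pull sX ⋙ EtCore.gsec Q).mapHomologicalComplex (ComplexShape.up ℕ)).map (EtBCQ.psiAdj h I J χ₀) ≫
      (NatTrans.mapHomologicalComplex P₂ (ComplexShape.up ℕ)).app J.cocomplex := by
  refine HomologicalComplex.hom_ext _ _ fun i => ?_
  exact H (I.cocomplex.X i) (J.cocomplex.X i) (χ₀.f i)

/-- The comparison of sections as a natural transformation. -/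
noncomputable def pushNat {T X Q P : Scheme.{u}} (h : T ⟶ X) (sX : Q ⟶ X) (m : P ⟶ Q) (aY : P ⟶ T)
    (w : aY ≫ h = m ≫ sX) : EtCoh.push h ⋙ EtCoh.pull sX ⋙ EtCore.gsec Q ⟶ EtCoh.pull aY ⋙ EtCore.gsec P where
  app B := EtStrictBC.pushSec h sX m aY w B
  naturality _ _ φ := EtStrictBC.pushSec_naturality h sX m aY w φ

theorem pushNat_app {T X Q P : Scheme.{u}} (h : T ⟶ X) (sX : Q ⟶ X) (m : P ⟶ Q) (aY : P ⟶ T)
    (w : aY ≫ h = m ≫ sX) (B : EtCoh.Ab T) :
    (pushNat h sX m aY w).app B = EtStrictBC.pushSec h sX m aY w B := rfl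

theorem via_app {T X P : Scheme.{u}} (aY : P ⟶ T) (h : T ⟶ X) (a : P ⟶ X) (w : aY ≫ h = a) (A : EtCoh.Ab X) :
    (((EtCore.pullComp aY h).symm ≪≫ EtCore.pullCongr w).app A) = EtContLib.pullVia aY h a w A := rfl

theorem key_iso {T X Q P : Scheme.{u}} (h : T ⟶ X) (sX : Q ⟶ X) (m : P ⟶ Q) (aY : P ⟶ T) (w : aY ≫ h = m ≫ sX)
    (A : EtCoh.Ab X) (hs : ∀ ξ : (EtCore.gsec Q).obj ((EtCoh.pull sX).obj A),
      ∃ (V : X.Etale) (t : Q ⟶ V.left) (wt : t ≫ V.hom = sX) (s : A.obj.obj (op V)),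
        EtContLib.secAt sX V t wt A s = ξ)
    (B : EtCoh.Ab T) (φ : (EtCoh.pull h).obj A ⟶ B)
    (p₁ : (EtCoh.pull m).obj ((EtCoh.pull sX).obj A) ≅ (EtCoh.pull (m ≫ sX)).obj A)
    (h₁ : p₁ = EtContLib.pullVia m sX (m ≫ sX) rfl A)
    (p₂ : (EtCoh.pull aY).obj ((EtCoh.pull h).obj A) ≅ (EtCoh.pull (m ≫ sX)).obj A)
    (h₂ : p₂ = EtContLib.pullVia aY h (m ≫ sX) w A) :
    (EtMVLib.pullSec m).app ((EtCoh.pull sX).obj A) ≫ (EtCore.gsec P).map (p₁.hom ≫ p₂.inv ≫ (EtCoh.pull aY).map φ) =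
      (EtCore.gsec Q).map ((EtCoh.pull sX).map (((EtCoh.pullPushAdj h).homEquiv A B) φ)) ≫
        EtStrictBC.pushSec h sX m aY w B := by
  subst h₁ h₂
  exact key_abs h sX m aY w A hs B φ

/-- The complexes of sections, for the composition isomorphisms. -/
theorem secCx_push {T X Q P : Scheme.{u}} (h : T ⟶ X) (sX : Q ⟶ X) (m : P ⟶ Q) [PreservesFiniteLimits (EtCoh.pull m)]
    (aY : P ⟶ T) (w : aY ≫ h = m ≫ sX)
    (hs : ∀ (A : EtCoh.Ab X) (ξ : (EtCore.gsec Q).obj ((EtCoh.pull sX).obj A)),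
      ∃ (V : X.Etale) (t : Q ⟶ V.left) (wt : t ≫ V.hom = sX) (s : A.obj.obj (op V)),
        EtContLib.secAt sX V t wt A s = ξ)
    {G : EtCoh.Ab X} [PreservesFiniteLimits (EtCoh.pull h)] (I : InjectiveResolution G)
    (J : InjectiveResolution ((EtCoh.pull h).obj G))
    (χ₀ : ((EtCoh.pull h).mapHomologicalComplex (ComplexShape.up ℕ)).obj I.cocomplex ⟶ J.cocomplex) :
    EtStrictBC.secCx m (EtStrictBC.compareCx (EtCoh.pull sX) (EtCoh.pull m) (EtCoh.pull h) (EtCoh.pull aY)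
      ((EtCore.pullComp m sX).symm ≪≫ EtCore.pullCongr (rfl : m ≫ sX = m ≫ sX))
      ((EtCore.pullComp aY h).symm ≪≫ EtCore.pullCongr w) χ₀) =
    ((EtCoh.pull sX ⋙ EtCore.gsec Q).mapHomologicalComplex (ComplexShape.up ℕ)).map (EtBCQ.psiAdj h I J χ₀) ≫
      (NatTrans.mapHomologicalComplex (pushNat h sX m aY w) (ComplexShape.up ℕ)).app J.cocomplex :=
  secCx_key h sX m aY _ _ I J χ₀ (pushNat h sX m aY w) fun A B φ => by
    rw [pushNat_app, Functor.comp_map]
    exact key_iso h sX m aY w A (hs A) B φ _ (via_app m sX _ rfl A) _ (via_app aY h _ w A)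

/-- Bijectivity of pullback to the part over a strict localization computes the unit and the higher
direct images. -/
theorem bijective_unit_and_isZero {T X P : Scheme.{u}} (h : T ⟶ X) [QuasiCompact h] [QuasiSeparated h] (x : X)
    (R : Type u) [CommRing R] [IsLocalRing R] [Algebra (X.presheaf.stalk x) R]
    [IsLocalHom (algebraMap (X.presheaf.stalk x) R)] [Hensel.IsStrictHenselization (X.presheaf.stalk x) R]
    (m : P ⟶ Spec (CommRingCat.of R)) [PreservesFiniteLimits (EtCoh.pull m)] (aY : P ⟶ T)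
    (sq : IsPullback aY m h (Hens2.specOf X x R)) (G : EtCoh.Ab X)
    (H : ∀ q, Function.Bijective (EtCore.Hpull m ((EtCoh.pull (Hens2.specOf X x R)).obj G) q)) :
    Function.Bijective ((EtCore.gsec (Spec (CommRingCat.of R))).map ((EtCoh.pull (Hens2.specOf X x R)).map
        ((EtCoh.pullPushAdj h).unit.app G))) ∧
      ∀ q : ℕ, 0 < q → IsZero ((EtCoh.pull (Hens2.specOf X x R) ⋙ EtCore.gsec (Spec (CommRingCat.of R))).obj
        ((EtCoh.Rpush h q).obj ((EtCoh.pull h).obj G))) := by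
  haveI : HenselianLocalRing R := Hensel.IsStrictHenselization.henselian (R := X.presheaf.stalk x)
  haveI : IsSepClosed (IsLocalRing.ResidueField R) :=
    (Hensel.IsStrictHenselization.isSepClosure (R := X.presheaf.stalk x) (S := R)).sep_closed
  let sX := Hens2.specOf X x R
  let a := m ≫ sX
  haveI := EtFound.pull_preservesFiniteLimits h
  haveI := EtFound.pull_preservesFiniteLimits sX
  haveI := EtFound.pull_preservesFiniteLimits aY
  constructor
  · have hsec : Function.Bijective ((EtMVLib.pullSec m).app ((EtCoh.pull sX).obj G)) := by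
      let A := (EtCoh.pull sX).obj G
      let ι₁ : (EtCoh.const _ ℤ ⟶ A) → (EtCoh.const P ℤ ⟶ (EtCoh.pull m).obj A) := fun a =>
        (EtCore.pullConst m ℤ).inv ≫ (EtCoh.pull m).map a
      have e₀ : ∀ a, EtCore.Hpull m A 0 (Ext.mk₀ a) = Ext.mk₀ (ι₁ a) := fun a => by
        show (Ext.mk₀ (EtCore.pullConst m ℤ).inv).comp ((Ext.mk₀ a).mapExactFunctor (EtCoh.pull m)) (zero_add 0) = _
        rw [Ext.mapExactFunctor_mk₀, Ext.mk₀_comp_mk₀]
      have hι : Function.Bijective ι₁ :=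
        (Function.Bijective.of_comp_iff' (Ext.mk₀_bijective _ _) ι₁).1 (by
          rw [show (Ext.mk₀ ∘ ι₁) = (EtCore.Hpull m A 0) ∘ Ext.mk₀ from funext fun a => (e₀ a).symm]
          exact (H 0).comp (Ext.mk₀_bijective _ _))
      refine (Function.Bijective.of_comp_iff _ (EtStrictBC.eSec_bijective A)).1 ?_
      rw [show (fun z => (EtMVLib.pullSec m).app A z) ∘ EtStrictBC.eSec = EtStrictBC.eSec ∘ ι₁ from funext fun a => by
        have := EtStrictBC.eSec_pull m a (𝟙 _)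
        rw [CategoryTheory.Functor.map_id, Category.comp_id] at this
        exact this.symm]
      exact (EtStrictBC.eSec_bijective _).comp hι
    have hk := key_square h x R m aY sq.w G ((EtCoh.pull h).obj G) (𝟙 _)
    rw [Adjunction.homEquiv_id, CategoryTheory.Functor.map_id, Category.comp_id] at hk
    exact bij_of_comp_eq _ _ _ _ hk hsec inferInstance (EtStrictBC.pushSec_bijective h x R m aY sq _)
  intro q hq
  let I := injectiveResolution G
  let J := injectiveResolution ((EtCoh.pull h).obj G)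
  obtain ⟨χ₀, hχ₀⟩ := EtBCQ.exists_psi h I J
  let K := ((EtCoh.pull sX).mapHomologicalComplex (ComplexShape.up ℕ)).obj I.cocomplex
  let M := ((EtCoh.pull aY).mapHomologicalComplex (ComplexShape.up ℕ)).obj J.cocomplex
  let ιK : (CochainComplex.single₀ _).obj ((EtCoh.pull sX).obj G) ⟶ K := RDer.mapAug (EtCoh.pull sX) I.ι
  let d := (EtContLib.pullVia aY h a sq.w G).inv
  let ιM : (CochainComplex.single₀ _).obj ((EtCoh.pull a).obj G) ⟶ M :=
    (CochainComplex.single₀ _).map d ≫ RDer.mapAug (EtCoh.pull aY) J.ι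
  haveI : QuasiIso ιM := inferInstance
  let χ : ((EtCoh.pull m).mapHomologicalComplex (ComplexShape.up ℕ)).obj K ⟶ M :=
    EtStrictBC.compareCx (EtCoh.pull sX) (EtCoh.pull m) (EtCoh.pull h) (EtCoh.pull aY)
      ((EtCore.pullComp m sX).symm ≪≫ EtCore.pullCongr (rfl : m ≫ sX = a))
      ((EtCore.pullComp aY h).symm ≪≫ EtCore.pullCongr sq.w) χ₀
  have hα : (EtContLib.pullVia m sX a rfl G).hom ≫ ιM.f 0 = (EtCoh.pull m).map (ιK.f 0) ≫ χ.f 0 :=
    EtStrictBC.compareCx_zero (EtCoh.pull sX) (EtCoh.pull m) (EtCoh.pull h) (EtCoh.pull aY)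
      ((EtCore.pullComp m sX).symm ≪≫ EtCore.pullCongr (rfl : m ≫ sX = a))
      ((EtCore.pullComp aY h).symm ≪≫ EtCore.pullCongr sq.w) I.ι J.ι χ₀ hχ₀
  have sq₁ : IsPullback sX (𝟙 _) (𝟙 X) sX := IsPullback.of_vert_isIso ⟨by simp⟩
  have hK : ∀ i b, Subsingleton (EtCoh.H (Spec (CommRingCat.of R)) (K.X i) (b + 1)) := fun i b =>
    EtStrictBC.subsingleton_H_strict (𝟙 X) x R (𝟙 _) sX sq₁ (I.cocomplex.X i) b
  have hM : ∀ i b, Subsingleton (EtCoh.H P (M.X i) (b + 1)) := fun i b =>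
    EtStrictBC.subsingleton_H_strict h x R m aY sq (J.cocomplex.X i) b
  have hb : Function.Bijective (EtLim.HpullThen m ((EtCoh.pull sX).obj G) (EtContLib.pullVia m sX a rfl G).hom q) :=
    (ConcreteCategory.bijective_of_isIso ((EtCoh.HF P q).map (EtContLib.pullVia m sX a rfl G).hom)).comp (H q)
  have hqi := (EtStrictBC.bijective_HpullThen_iff m ιK ιM (EtContLib.pullVia m sX a rfl G).hom χ hα hK hM q).1 hb
  let Φ := EtCoh.pull sX ⋙ EtCore.gsec (Spec (CommRingCat.of R))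
  let P₂ : EtCoh.push h ⋙ Φ ⟶ EtCoh.pull aY ⋙ EtCore.gsec P := pushNat h sX m aY sq.w
  haveI : ∀ B, IsIso (P₂.app B) := fun B =>
    (ConcreteCategory.isIso_iff_bijective _).2 (EtStrictBC.pushSec_bijective h x R m aY sq B)
  let θ := EtBCQ.psiAdj h I J χ₀
  let a₂ := (NatTrans.mapHomologicalComplex P₂ (ComplexShape.up ℕ)).app J.cocomplex
  haveI : IsIso a₂ := by
    haveI : ∀ i, IsIso (a₂.f i) := fun i => inferInstanceAs (IsIso (P₂.app (J.cocomplex.X i)))
    exact HomologicalComplex.Hom.isIso_of_components _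
  have key : EtStrictBC.secCx m χ = (Φ.mapHomologicalComplex (ComplexShape.up ℕ)).map θ ≫ a₂ :=
    secCx_push h sX m aY sq.w (EtStrictBC.exists_secAt x R) I J χ₀
  let eΦ : EtCoh.stalk (Hens2.geomPt X x R) ≅ Φ := EtContLib.stalkIsoSections X x R
  haveI : PreservesFiniteLimits Φ := preservesFiniteLimits_of_natIso eΦ
  haveI : PreservesFiniteColimits Φ := preservesFiniteColimits_of_natIso eΦ
  rw [key, quasiIsoAt_iff_comp_right _ a₂ q, EtBCQ.quasiIsoAt_map_iff] at hqi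
  obtain ⟨k, rfl⟩ := Nat.exists_eq_succ_of_ne_zero hq.ne'
  have hz : IsZero (I.cocomplex.homology (k + 1)) :=
    (exactAt_iff_isZero_homology _ _).1 (I.cocomplex_exactAt_succ k)
  exact ((Functor.map_isZero Φ hz).of_iso (asIso (Φ.map (homologyMap θ (k + 1)))).symm).of_iso
    (Φ.mapIso (J.isoRightDerivedObj (EtCoh.push h) (k + 1)))

end Groth.Agent.EtLARel
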